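import Cfsg.Agent.Lib.Helper6.TCD.Fi23U2.CS0
import Cfsg.Agent.Lib.Helper6.TCD.Fi23U2.CS1
import Cfsg.Agent.Lib.Helper6.TCD.Fi23U2.CS2
import Cfsg.Agent.Lib.Helper6.TCD.Fi23U2.CS3
import Cfsg.Agent.Lib.Helper6.TCD.Fi23U2.CS4
import Cfsg.Agent.Lib.Helper6.TCD.Fi23U2.CS5
import Cfsg.Agent.Lib.Helper6.TCD.Fi23U2.CS6
import Cfsg.Agent.Lib.Helper6.TCD.Fi23U2.CS7
import Cfsg.Agent.Lib.Helper6.TCD.Fi23U2.CS8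
import Cfsg.Agent.Lib.Helper6.TCD.Fi23U2.CS9
import Cfsg.Agent.Lib.Helper6.TCD.Fi23U2.CS10
import Cfsg.Agent.Lib.Helper6.TCD.Fi23U2.CS11
import Cfsg.Agent.Lib.Helper6.TCD.Fi23U2.CN0
import Cfsg.Agent.Lib.Helper6.TCD.Fi23U2.CN1
import Cfsg.Agent.Lib.Helper6.TCD.Fi23U2.CC
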